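import Mathlib.AlgebraicGeometry.ZariskisMainTheorem
import Mathlib.AlgebraicGeometry.Limits
import Mathlib.AlgebraicGeometry.IdealSheaf.Subscheme
import Mathlib.AlgebraicGeometry.Morphisms.Integral
import Groth.Agent.FlatMor.GenericPts
import Groth.Agent.SchPoints.Basic
import Groth.Agent.S9709

/-!
Generically finite morphisms: a quasi-compact, locally finite type morphism with finite fibre over
a generic point is finite over an affine neighbourhood of it (given an affine open containing the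
fibre), and pairwise disjoint affine neighbourhoods of generic points.
-/

universe u

open AlgebraicGeometry CategoryTheory CategoryTheory.Limits TopologicalSpace Topology

set_option backward.isDefEq.respectTransparency.types false

namespace Groth.Agent.GenFinite

variable {X Y : Scheme.{u}}

theorem eq_of_specializes_generic {z η : Y} (hη : closure {η} ∈ irreducibleComponents Y)
    (h : z ⤳ η) : z = η :=
  (h.antisymm ((Groth.Agent.FlatMor.GenericPts.closure_mem_irreducibleComponents_iff η).mp hη z h)).eq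

theorem generic_notMem_closure_range (f : X ⟶ Y) [QuasiCompact f] {η : Y}
    (hη : closure {η} ∈ irreducibleComponents Y) (h : η ∉ Set.range f.base) :
    η ∉ closure (Set.range f.base) := fun hcl => by
  obtain ⟨x, hx⟩ := Groth.Agent.SchPoints.exists_specializes_of_mem_closure_range f hcl
  exact h ⟨x, eq_of_specializes_generic hη hx⟩

theorem exists_affine_preimage_le (f : X ⟶ Y) [QuasiCompact f] {η : Y}
    (hη : closure {η} ∈ irreducibleComponents Y) (W : X.Opens) (hW : f.base ⁻¹' {η} ⊆ W) :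
    ∃ V : Y.Opens, IsAffineOpen V ∧ η ∈ V ∧ f ⁻¹ᵁ V ≤ W := by
  let C : Closeds X := ⟨(W : Set X)ᶜ, W.2.isClosed_compl⟩
  let I := Scheme.IdealSheafData.vanishingIdeal C
  have hr : Set.range I.subschemeι.base = (W : Set X)ᶜ := by
    rw [Scheme.IdealSheafData.range_subschemeι]
    simp [I, C]
  have hn : η ∉ closure (Set.range (I.subschemeι ≫ f).base) := by
    refine generic_notMem_closure_range _ hη ?_
    rintro ⟨c, hc⟩
    exact (hr.le ⟨c, rfl⟩) (hW (show f.base (I.subschemeι.base c) = η from hc))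
  obtain ⟨_, ⟨V, hV, rfl⟩, hηV, hVc⟩ := Y.isBasis_affineOpens.exists_subset_of_mem_open hn
    isClosed_closure.isOpen_compl
  refine ⟨V, hV, hηV, fun x hx => by_contra fun hxW => ?_⟩
  obtain ⟨c, hc⟩ := hr.ge hxW
  exact hVc hx (subset_closure ⟨c, show f.base (I.subschemeι.base c) = f.base x by rw [hc]⟩)

section fibre

variable (f : X ⟶ Y) [LocallyOfFiniteType f] {η : Y}

theorem quasiFiniteAt_of_finite_fibre (hfin : (f.base ⁻¹' {η}).Finite) {x : X}
    (hx : f.base x = η) : f.QuasiFiniteAt x := by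
  subst hx
  rw [Scheme.Hom.quasiFiniteAt_iff_isOpen_singleton_asFiber]
  have : Finite (f.fiber (f.base x)) := (f.fiberHomeo (f.base x)).finite_iff.mpr hfin.to_subtype
  exact isOpen_discrete _

theorem generic_of_finite_fibre (hη : closure {η} ∈ irreducibleComponents Y)
    (hfin : (f.base ⁻¹' {η}).Finite) {x : X} (hx : f.base x = η) :
    closure {x} ∈ irreducibleComponents X := by
  rw [Groth.Agent.FlatMor.GenericPts.closure_mem_irreducibleComponents_iff]
  intro z hz
  have hfz : f.base z = η := eq_of_specializes_generic hη (hx ▸ hz.map f.continuous)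
  subst hx
  have : Finite (f.fiber (f.base x)) := (f.fiberHomeo (f.base x)).finite_iff.mpr hfin.to_subtype
  let z' : f.fiber (f.base x) := (f.fiberHomeo (f.base x)).symm ⟨z, hfz⟩
  have hz' : (f.fiberι (f.base x)).base z' = z := f.fiberι_fiberHomeo_symm _ _
  have h1 : z' ⤳ f.asFiber x := by
    rw [← (f.fiberι (f.base x)).isEmbedding.isInducing.specializes_iff, hz', f.fiberι_asFiber]
    exact hz
  have h2 := h1.eq
  rw [← hz', h2, f.fiberι_asFiber]

theorem exists_affine_isFinite_of_isSeparated [IsSeparated f] [QuasiCompact f]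
    (hη : closure {η} ∈ irreducibleComponents Y) (hfin : (f.base ⁻¹' {η}).Finite) :
    ∃ V : Y.Opens, IsAffineOpen V ∧ η ∈ V ∧ IsFinite (f ∣_ V) := by
  obtain ⟨V₀, hV₀, hηV₀, hle⟩ := exists_affine_preimage_le f hη f.quasiFiniteLocus
    fun x hx => quasiFiniteAt_of_finite_fibre f hfin hx
  set g := f ∣_ V₀ with hg
  have : LocallyQuasiFinite g := by
    rw [← Scheme.Hom.quasiFiniteLocus_eq_top_iff]
    ext x
    have : f.QuasiFiniteAt ((f ⁻¹ᵁ V₀).ι x) := hle x.2
    rw [← Scheme.Hom.quasiFiniteAt_comp_iff_of_isOpenImmersion, ← morphismRestrict_ι,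
      Scheme.Hom.quasiFiniteAt_comp_iff] at this
    simpa
  let η' : (V₀ : Scheme.{u}) := ⟨η, hηV₀⟩
  have hη' : closure {η'} ∈ irreducibleComponents (V₀ : Scheme.{u}) := by
    rw [Groth.Agent.FlatMor.GenericPts.closure_mem_irreducibleComponents_iff] at hη ⊢
    intro z hz
    exact (subtype_specializes_iff ..).mpr (hη z.1 ((subtype_specializes_iff ..).mp hz))
  let t := g.toNormalization
  let h := g.fromNormalization
  have hth : t ≫ h = g := g.toNormalization_fromNormalization
  have hfib : ∀ x', h.base x' = η' → x' ∈ Set.range t.base := by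
    intro x' hx'
    obtain ⟨x, hx⟩ := Groth.Agent.SchPoints.exists_specializes_of_mem_closure_range t
      (y := x') (by rw [t.denseRange.closure_range]; trivial)
    have hhx : h.base (t.base x) = η' := eq_of_specializes_generic hη' (hx' ▸ hx.map h.continuous)
    exact ⟨x, ((Groth.Agent.S9709.result h (t.base x)).le
      ⟨specializes_iff_mem_closure.mp hx, hx'.trans hhx.symm⟩).symm⟩
  have hcl : IsClosed (h.base '' (Set.range t.base)ᶜ) :=
    h.isClosedMap _ t.isOpenEmbedding.isOpen_range.isClosed_compl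
  have hn : η' ∉ h.base '' (Set.range t.base)ᶜ := by
    rintro ⟨x', hx', e⟩; exact hx' (hfib x' e)
  obtain ⟨_, ⟨V₁, hV₁, rfl⟩, hηV₁, hV₁c⟩ := (V₀ : Scheme.{u}).isBasis_affineOpens.exists_subset_of_mem_open
    (show η' ∈ (h.base '' (Set.range t.base)ᶜ)ᶜ from hn) hcl.isOpen_compl
  have hsurj : Surjective (t ∣_ h ⁻¹ᵁ V₁) := by
    refine ⟨fun ⟨x', hx'⟩ => ?_⟩
    obtain ⟨x, hx⟩ : x' ∈ Set.range t.base := by_contra fun hc => hV₁c hx' ⟨x', hc, rfl⟩
    refine ⟨⟨x, by show t.base x ∈ h ⁻¹ᵁ V₁; rw [hx]; exact hx'⟩, Subtype.ext ?_⟩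
    exact (congrArg (fun ψ : (t ⁻¹ᵁ h ⁻¹ᵁ V₁ : Scheme.{u}) ⟶ g.normalization => ψ ⟨x, _⟩)
      (morphismRestrict_ι t (h ⁻¹ᵁ V₁))).trans hx
  have : IsIso (t ∣_ h ⁻¹ᵁ V₁) :=
    (isIso_iff_isOpenImmersion_and_surjective _).mpr ⟨inferInstance, hsurj⟩
  have hint : IsIntegralHom (g ∣_ V₁) := by
    rw [← hth, morphismRestrict_comp]
    exact MorphismProperty.comp_mem @IsIntegralHom.{u} _ _ (MorphismProperty.of_isIso _ _)
      (IsZariskiLocalAtTarget.restrict (inferInstance : IsIntegralHom h) V₁)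
  have hfinV : IsFinite (g ∣_ V₁) :=
    (IsFinite.iff_isIntegralHom_and_locallyOfFiniteType _).mpr ⟨hint, inferInstance⟩
  refine ⟨V₀.ι ''ᵁ V₁, hV₁.image_of_isOpenImmersion V₀.ι, ⟨η', hηV₁, rfl⟩, ?_⟩
  exact (MorphismProperty.arrow_mk_iso_iff @IsFinite.{u} (morphismRestrictRestrict f V₀ V₁)).mp hfinV

theorem exists_affine_isFinite [QuasiCompact f] (hη : closure {η} ∈ irreducibleComponents Y)
    (hfin : (f.base ⁻¹' {η}).Finite) (W : X.Opens) (hWs : (W : Scheme.{u}).IsSeparated)
    (hW : f.base ⁻¹' {η} ⊆ W) :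
    ∃ V : Y.Opens, IsAffineOpen V ∧ η ∈ V ∧ IsFinite (f ∣_ V) := by
  obtain ⟨V₀, hV₀, hηV₀, hle⟩ := exists_affine_preimage_le f hη W hW
  have : (f ⁻¹ᵁ V₀ : Scheme.{u}).IsSeparated := by
    constructor
    rw [← terminal.comp_from (X.homOfLE hle)]
    infer_instance
  have : IsSeparated (f ∣_ V₀) := inferInstance
  let η' : (V₀ : Scheme.{u}) := ⟨η, hηV₀⟩
  have hη' : closure {η'} ∈ irreducibleComponents (V₀ : Scheme.{u}) := by
    rw [Groth.Agent.FlatMor.GenericPts.closure_mem_irreducibleComponents_iff] at hη ⊢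
    intro z hz
    exact (subtype_specializes_iff ..).mpr (hη z.1 ((subtype_specializes_iff ..).mp hz))
  have hfin' : ((f ∣_ V₀).base ⁻¹' {η'}).Finite := by
    refine Set.Finite.subset (hfin.preimage (f ⁻¹ᵁ V₀).ι.isOpenEmbedding.injective.injOn) ?_
    intro x hx
    exact (congrArg (fun ψ : (f ⁻¹ᵁ V₀ : Scheme.{u}) ⟶ Y => ψ x) (morphismRestrict_ι f V₀)).symm.trans
      (congrArg Subtype.val (Set.mem_singleton_iff.mp hx))
  obtain ⟨V₁, hV₁, hηV₁, hf₁⟩ := exists_affine_isFinite_of_isSeparated (f ∣_ V₀) hη' hfin'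
  exact ⟨V₀.ι ''ᵁ V₁, hV₁.image_of_isOpenImmersion V₀.ι, ⟨η', hηV₁, rfl⟩,
    (MorphismProperty.arrow_mk_iso_iff @IsFinite.{u} (morphismRestrictRestrict f V₀ V₁)).mp hf₁⟩

end fibre

/-- Pairwise disjoint affine neighbourhoods of finitely many generic points, quasi-separated case. -/
theorem exists_disjoint_affine_nhds [QuasiSeparatedSpace X] {σ : Type*} [Finite σ] (η : σ → X)
    (hη : ∀ i, closure {η i} ∈ irreducibleComponents X) (hinj : Function.Injective η) :
    ∃ U : σ → X.Opens, (∀ i, IsAffineOpen (U i) ∧ η i ∈ U i) ∧ Pairwise (fun i j => Disjoint (U i) (U j)) := by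
  have h0 : ∀ i, ∃ U : X.Opens, IsAffineOpen U ∧ η i ∈ U ∧ ∀ j, j ≠ i → η j ∉ U := by
    intro i
    have hn : η i ∈ (⋃ j : {j // j ≠ i}, closure {η j.1})ᶜ := by
      simp only [Set.mem_compl_iff, Set.mem_iUnion, not_exists]
      intro j hj
      exact j.2 (hinj (eq_of_specializes_generic (hη i) (specializes_iff_mem_closure.mpr hj)))
    obtain ⟨_, ⟨U, hU, rfl⟩, hiU, hUc⟩ := X.isBasis_affineOpens.exists_subset_of_mem_open hn
      (isClosed_iUnion_of_finite fun _ => isClosed_closure).isOpen_compl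
    exact ⟨U, hU, hiU, fun j hj h => hUc h (Set.mem_iUnion.mpr ⟨⟨j, hj⟩, subset_closure rfl⟩)⟩
  choose U hU hηU hne using h0
  have h1 : ∀ i, η i ∈ (⋃ j : {j // j ≠ i}, closure ((U i ⊓ U j.1 : X.Opens) : Set X))ᶜ := by
    intro i
    simp only [Set.mem_compl_iff, Set.mem_iUnion, not_exists]
    intro j hj
    have hc : IsCompact ((U i ⊓ U j.1 : X.Opens) : Set X) :=
      (hU i).isCompact.inter_of_isOpen (hU j.1).isCompact (U i).2 (U j.1).2
    have : CompactSpace (U i ⊓ U j.1 : X.Opens).toScheme := isCompact_iff_compactSpace.mp hc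
    have : QuasiCompact (U i ⊓ U j.1 : X.Opens).ι := by
      have : QuasiCompact ((U i ⊓ U j.1 : X.Opens).ι ≫ terminal.from X) := by
        rw [terminal.comp_from]
        exact (compactSpace_iff_quasiCompact _).mp inferInstance
      have : QuasiSeparated (terminal.from X) :=
        (quasiSeparatedSpace_iff_quasiSeparated X).mp inferInstance
      exact QuasiCompact.of_comp _ (terminal.from X)
    rw [← Scheme.Opens.range_ι] at hj
    refine generic_notMem_closure_range _ (hη i) ?_ hj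
    rw [Scheme.Opens.range_ι]
    exact fun h => hne j.1 i j.2.symm h.2
  have h2 : ∀ i, ∃ V : X.Opens, IsAffineOpen V ∧ η i ∈ V ∧ V ≤ U i ∧
      ∀ j, j ≠ i → Disjoint V (U j) := by
    intro i
    obtain ⟨_, ⟨V, hV, rfl⟩, hiV, hVc⟩ := X.isBasis_affineOpens.exists_subset_of_mem_open
      (show η i ∈ (U i : Set X) ∩ (⋃ j : {j // j ≠ i}, closure ((U i ⊓ U j.1 : X.Opens) : Set X))ᶜ
        from ⟨hηU i, h1 i⟩)
      ((U i).2.inter (isClosed_iUnion_of_finite fun _ => isClosed_closure).isOpen_compl)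
    refine ⟨V, hV, hiV, fun x hx => (hVc hx).1, fun j hj => ?_⟩
    rw [disjoint_iff, eq_bot_iff]
    intro x hx
    have h3 : x ∈ closure ((U i ⊓ U j : X.Opens) : Set X) := subset_closure ⟨(hVc hx.1).1, hx.2⟩
    exact absurd (Set.mem_iUnion.mpr ⟨(⟨j, hj⟩ : {j // j ≠ i}), h3⟩) (hVc hx.1).2
  choose V hV hηV hVU hd using h2
  exact ⟨V, fun i => ⟨hV i, hηV i⟩, fun i j hij => (hd i j (Ne.symm hij)).mono_right (hVU j)⟩

/-- Pairwise disjoint affine neighbourhoods of generic points, finitely many components case. -/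
theorem exists_disjoint_affine_nhds_of_finite (hfin : (irreducibleComponents X).Finite)
    {σ : Type*} (η : σ → X)
    (hη : ∀ i, closure {η i} ∈ irreducibleComponents X) (hinj : Function.Injective η) :
    ∃ U : σ → X.Opens, (∀ i, IsAffineOpen (U i) ∧ η i ∈ U i) ∧ Pairwise (fun i j => Disjoint (U i) (U j)) := by
  have h : ∀ i, ∃ U : X.Opens, IsAffineOpen U ∧ η i ∈ U ∧
      ∀ ξ, closure {ξ} ∈ irreducibleComponents X → ξ ∈ U → ξ = η i := by
    intro i
    let C : Set X := ⋃ Z ∈ irreducibleComponents X \ {closure {η i}}, Z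
    have hC : IsClosed C := hfin.sdiff.isClosed_biUnion
      fun Z hZ => isClosed_of_mem_irreducibleComponents Z hZ.1
    have hiC : η i ∉ C := by
      intro h
      obtain ⟨Z, hZ, hiZ⟩ := Set.mem_iUnion₂.mp h
      have h1 : closure {η i} ⊆ Z := closure_minimal (Set.singleton_subset_iff.mpr hiZ)
        (isClosed_of_mem_irreducibleComponents Z hZ.1)
      exact hZ.2 (subset_antisymm ((hη i).2 hZ.1.1 h1) h1)
    obtain ⟨_, ⟨U, hU, rfl⟩, hiU, hUC⟩ := X.isBasis_affineOpens.exists_subset_of_mem_open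
      (show η i ∈ Cᶜ from hiC) hC.isOpen_compl
    refine ⟨U, hU, hiU, fun ξ hξ hξU => by_contra fun hne => ?_⟩
    refine hUC hξU (Set.mem_iUnion₂.mpr ⟨_, ⟨hξ, fun e => hne ?_⟩, subset_closure rfl⟩)
    exact eq_of_specializes_generic (hη i)
      (specializes_iff_closure_subset.mpr (Set.mem_singleton_iff.mp e).ge)
  choose U hU hηU hu using h
  refine ⟨U, fun i => ⟨hU i, hηU i⟩, fun i j hij => ?_⟩
  show Disjoint (U i) (U j)
  rw [disjoint_iff, eq_bot_iff]
  intro x hx
  obtain ⟨ξ, hξ, hξx⟩ := Groth.Agent.FlatMor.GenericPts.exists_generic_specializes x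
  exact absurd (hinj ((hu i ξ hξ (hξx.mem_open (U i).2 hx.1)).symm.trans
    (hu j ξ hξ (hξx.mem_open (U j).2 hx.2)))) hij

end Groth.Agent.GenFinite
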