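import Mathlib.AlgebraicGeometry.Morphisms.Finite
import Mathlib.AlgebraicGeometry.Morphisms.ClosedImmersion
import Mathlib.AlgebraicGeometry.Pullbacks
import Mathlib.RingTheory.LocalRing.Module
import Mathlib.RingTheory.LocalRing.ResidueField.Ideal
import Mathlib.LinearAlgebra.Dual.Lemmas

/-!
A finite morphism which is a closed immersion over a field valued point is a closed immersion over
an open neighbourhood of that point.
-/

universe u

open AlgebraicGeometry CategoryTheory CategoryTheory.Limits TensorProduct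

set_option backward.isDefEq.respectTransparency.types false

namespace Groth.Agent.GenFinite

theorem exists_smul_mem_range {A B κ : Type u} [CommRing A] [CommRing B] [Algebra A B]
    [Module.Finite A B] [Field κ] [Algebra A κ]
    (h : Function.Surjective (Algebra.TensorProduct.includeRight : κ →ₐ[A] B ⊗[A] κ)) :
    ∃ a : A, algebraMap A κ a ≠ 0 ∧ ∀ b : B, ∃ c : A, algebraMap A B c = a • b := by
  haveI : (RingHom.ker (algebraMap A κ)).IsPrime := RingHom.ker_isPrime _
  let p : PrimeSpectrum A := ⟨RingHom.ker (algebraMap A κ), inferInstance⟩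
  let N : Submodule A B := LinearMap.range (Algebra.linearMap A B)
  suffices hp : p ∉ Module.support A (B ⧸ N) by
    rw [Module.mem_support_iff_of_finite, SetLike.not_le_iff_exists] at hp
    obtain ⟨a, ha, hap⟩ := hp
    refine ⟨a, fun h0 => hap h0, fun b => ?_⟩
    have h1 : N.mkQ (a • b) = 0 := by
      rw [map_smul]; exact Module.mem_annihilator.mp ha _
    exact LinearMap.mem_range.mp ((Submodule.Quotient.mk_eq_zero N).mp h1)
  intro hp
  rw [Module.mem_support_iff_nontrivial_residueField_tensorProduct] at hp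
  haveI : p.asIdeal.IsPrime := p.isPrime
  let K := p.asIdeal.ResidueField
  obtain ⟨v, hv⟩ := exists_ne (0 : K ⊗[A] (B ⧸ N))
  obtain ⟨ℓ, hℓ⟩ : ∃ ℓ : Module.Dual K (K ⊗[A] (B ⧸ N)), ℓ v ≠ 0 := by
    by_contra hc
    push Not at hc
    exact hv ((Module.forall_dual_apply_eq_zero_iff K v).mp hc)
  let ι : K →ₐ[A] κ := Ideal.ResidueField.liftₐ p.asIdeal (Algebra.ofId A κ) le_rfl
    (fun x hx => Ne.isUnit (a := algebraMap A κ x) fun h0 => hx h0)
  let L : B →ₗ[A] κ :=
    ι.toLinearMap ∘ₗ (ℓ.restrictScalars A) ∘ₗ (TensorProduct.mk A K (B ⧸ N) 1) ∘ₗ N.mkQ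
  let Φ : B ⊗[A] κ →ₗ[A] κ := TensorProduct.lift ((LinearMap.mul A κ).comp L)
  have hL : ∀ b, L b = 0 := by
    intro b
    obtain ⟨c, hc⟩ := h (b ⊗ₜ 1)
    have h1 : Φ (b ⊗ₜ 1) = L b := by
      simp [Φ]
    have h2 : L 1 = 0 := by
      have : N.mkQ (1 : B) = 0 := (Submodule.Quotient.mk_eq_zero N).mpr ⟨1, by simp⟩
      show ι (ℓ ((1 : K) ⊗ₜ[A] N.mkQ (1 : B))) = 0
      rw [this, TensorProduct.tmul_zero, map_zero, map_zero]
    have h3 : Φ (1 ⊗ₜ c) = 0 := by simp [Φ, h2]
    rw [← h1, ← hc, Algebra.TensorProduct.includeRight_apply, h3]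
  refine hℓ ?_
  clear hℓ hv
  induction v using TensorProduct.induction_on with
  | zero => exact map_zero _
  | tmul k m =>
    obtain ⟨b, rfl⟩ := N.mkQ_surjective m
    have h4 : ℓ ((1 : K) ⊗ₜ[A] N.mkQ b) = 0 := ι.toRingHom.injective ((hL b).trans (map_zero _).symm)
    rw [show k ⊗ₜ[A] N.mkQ b = k • ((1 : K) ⊗ₜ[A] N.mkQ b) by
      rw [TensorProduct.smul_tmul', smul_eq_mul, mul_one], map_smul, h4, smul_zero]
  | add x y hx hy => rw [map_add, hx, hy, add_zero]

theorem isClosedImmersion_pullback_away {A B : Type u} [CommRing A] [CommRing B] [Algebra A B]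
    (a : A) (ha : ∀ b : B, ∃ c : A, algebraMap A B c = a • b) :
    IsClosedImmersion (pullback.snd (Spec.map (CommRingCat.ofHom (algebraMap A B)))
      (Spec.map (CommRingCat.ofHom (algebraMap A (Localization.Away a))))) := by
  rw [← MorphismProperty.cancel_left_of_respectsIso @IsClosedImmersion.{u}
    (pullbackSpecIso A B (Localization.Away a)).inv, pullbackSpecIso_inv_snd]
  refine IsClosedImmersion.spec_of_surjective _ fun z => ?_
  induction z using TensorProduct.induction_on with
  | zero => exact ⟨0, map_zero _⟩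
  | tmul b l =>
    obtain ⟨c, hc⟩ := ha b
    have hu : IsUnit (algebraMap A (Localization.Away a) a) :=
      IsLocalization.map_units _ (⟨a, 1, by simp⟩ : Submonoid.powers a)
    refine ⟨↑hu.unit⁻¹ * algebraMap A _ c * l, ?_⟩
    show (1 : B) ⊗ₜ[A] (↑hu.unit⁻¹ * algebraMap A _ c * l) = b ⊗ₜ[A] l
    rw [mul_comm (↑hu.unit⁻¹ : Localization.Away a), mul_assoc, ← Algebra.smul_def,
      ← TensorProduct.smul_tmul, Algebra.smul_def, mul_one, hc, TensorProduct.smul_tmul,
      Algebra.smul_def, ← mul_assoc, IsUnit.mul_val_inv, one_mul]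
  | add x y hx hy =>
    obtain ⟨r, hr⟩ := hx
    obtain ⟨s, hs⟩ := hy
    exact ⟨r + s, by rw [map_add, hr, hs]⟩

theorem surjective_of_isClosedImmersion_SpecMap {R S : CommRingCat.{u}} (φ : R ⟶ S)
    (h : IsClosedImmersion (Spec.map φ)) : Function.Surjective φ.hom := by
  obtain ⟨-, h2⟩ := IsClosedImmersion.isAffine_surjective_of_isAffine (Spec.map φ)
  have e : φ = (Scheme.ΓSpecIso R).inv ≫ (Spec.map φ).appTop ≫ (Scheme.ΓSpecIso S).hom := by
    rw [Scheme.ΓSpecIso_naturality, Iso.inv_hom_id_assoc]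
  rw [e, CommRingCat.hom_comp, CommRingCat.hom_comp, RingHom.coe_comp, RingHom.coe_comp]
  exact ((ConcreteCategory.bijective_of_isIso (Scheme.ΓSpecIso S).hom).2.comp h2).comp
    (ConcreteCategory.bijective_of_isIso (Scheme.ΓSpecIso R).inv).2

theorem exists_nhd_isClosedImmersion_Spec {A B : CommRingCat.{u}} (φ : A ⟶ B)
    (hf : φ.hom.Finite) {κ : Type u} [Field κ] (ψ : A ⟶ CommRingCat.of κ)
    (h : IsClosedImmersion (pullback.snd (Spec.map φ) (Spec.map ψ))) :
    ∃ U : (Spec A).Opens, (Spec.map ψ).base default ∈ U ∧ IsClosedImmersion (Spec.map φ ∣_ U) := by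
  algebraize [φ.hom, ψ.hom]
  have hs : Function.Surjective (Algebra.TensorProduct.includeRight : κ →ₐ[A] B ⊗[A] κ) := by
    change IsClosedImmersion (pullback.snd (Spec.map (CommRingCat.ofHom (algebraMap A B)))
      (Spec.map (CommRingCat.ofHom (algebraMap A κ)))) at h
    rw [← MorphismProperty.cancel_left_of_respectsIso @IsClosedImmersion.{u}
      (pullbackSpecIso A B κ).inv, pullbackSpecIso_inv_snd] at h
    exact surjective_of_isClosedImmersion_SpecMap _ h
  obtain ⟨a, ha0, ha⟩ := exists_smul_mem_range hs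
  let j := Spec.map (CommRingCat.ofHom (algebraMap A (Localization.Away a)))
  haveI : IsOpenImmersion j := IsOpenImmersion.of_isLocalization a
  refine ⟨j.opensRange, ?_, ?_⟩
  · show (Spec.map ψ).base default ∈ Set.range j.base
    rw [show Set.range j.base = (PrimeSpectrum.basicOpen a : Set (PrimeSpectrum A)) from
      PrimeSpectrum.localization_away_comap_range (Localization.Away a) a]
    intro hmem
    refine ha0 ?_
    have key : ∀ P : Spec (CommRingCat.of κ), a ∈ ((Spec.map ψ).base P).asIdeal → ψ.hom a = 0 := by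
      intro P hP
      have h0 : P.asIdeal = (⊥ : Ideal κ) := (Ideal.eq_bot_or_top _).resolve_right P.isPrime.ne_top
      have h1 : ψ.hom a ∈ P.asIdeal := hP
      rw [h0] at h1
      exact Ideal.mem_bot.mp h1
    exact key _ hmem
  · rw [MorphismProperty.arrow_mk_iso_iff @IsClosedImmersion.{u} (morphismRestrictOpensRange (Spec.map φ) j)]
    exact isClosedImmersion_pullback_away a ha

theorem exists_nhd_isClosedImmersion {X Y : Scheme.{u}} (f : X ⟶ Y) [IsFinite f] {κ : Type u} [Field κ]
    (t : Spec (CommRingCat.of κ) ⟶ Y) (h : IsClosedImmersion (pullback.snd f t)) :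
    ∃ U : Y.Opens, t.base default ∈ U ∧ IsClosedImmersion (f ∣_ U) := by
  obtain ⟨V, hV, hyV, -⟩ := exists_isAffineOpen_mem_and_subset
    (TopologicalSpace.Opens.mem_top (t.base default))
  let j := hV.fromSpec
  have hr : Set.range t.base ⊆ Set.range j.base := by
    rintro _ ⟨p, rfl⟩
    rw [hV.range_fromSpec, Subsingleton.elim p default]; exact hyV
  let ψ := Spec.preimage (IsOpenImmersion.lift j t hr)
  haveI : IsFinite (pullback.snd f j) := MorphismProperty.pullback_snd _ _ ‹_›
  haveI : IsAffine (pullback f j) := isAffine_of_isAffineHom (pullback.snd f j)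
  let φ := Spec.preimage ((pullback f j).isoSpec.inv ≫ pullback.snd f j)
  have hφ : Spec.map φ = (pullback f j).isoSpec.inv ≫ pullback.snd f j := Spec.map_preimage _
  have hfin : φ.hom.Finite := by
    rw [← IsFinite.SpecMap_iff, hφ]; infer_instance
  have hsq : IsPullback (pullback.fst (Spec.map φ) (Spec.map ψ) ≫ (pullback f j).isoSpec.inv ≫ pullback.fst f j)
      (pullback.snd (Spec.map φ) (Spec.map ψ)) f t := by
    have h1 : IsPullback ((pullback f j).isoSpec.inv ≫ pullback.fst f j) (Spec.map φ) f j := by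
      rw [hφ]
      exact IsPullback.of_iso (IsPullback.of_hasPullback f j) (pullback f j).isoSpec (Iso.refl _)
        (Iso.refl _) (Iso.refl _) (by simp) (by simp) (by simp) (by simp)
    have h2 := (IsPullback.of_hasPullback (Spec.map φ) (Spec.map ψ)).paste_horiz h1
    rwa [show Spec.map ψ ≫ j = t by rw [Spec.map_preimage, IsOpenImmersion.lift_fac]] at h2
  have h' : IsClosedImmersion (pullback.snd (Spec.map φ) (Spec.map ψ)) := by
    rw [← hsq.isoPullback_hom_snd, MorphismProperty.cancel_left_of_respectsIso @IsClosedImmersion.{u}]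
    exact h
  obtain ⟨U, hyU, hU⟩ := exists_nhd_isClosedImmersion_Spec φ hfin ψ h'
  refine ⟨j ''ᵁ U, ⟨_, hyU, ?_⟩, ?_⟩
  · show (Spec.map ψ ≫ j).base default = t.base default
    rw [show Spec.map ψ ≫ j = t by rw [Spec.map_preimage, IsOpenImmersion.lift_fac]]
  · have e : (U.ι ≫ j).opensRange = j ''ᵁ U := by
      rw [Scheme.Hom.opensRange_comp, Scheme.Opens.opensRange_ι]
    rw [← e, MorphismProperty.arrow_mk_iso_iff @IsClosedImmersion.{u} (morphismRestrictOpensRange f (U.ι ≫ j))]
    have h1 : IsPullback ((pullback f j).isoSpec.inv ≫ pullback.fst f j) (Spec.map φ) f j := by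
      rw [hφ]
      exact IsPullback.of_iso (IsPullback.of_hasPullback f j) (pullback f j).isoSpec (Iso.refl _)
        (Iso.refl _) (Iso.refl _) (by simp) (by simp) (by simp) (by simp)
    have h2 := ((isPullback_morphismRestrict (Spec.map φ) U).flip).paste_horiz h1
    rw [← h2.isoPullback_inv_snd, MorphismProperty.cancel_left_of_respectsIso @IsClosedImmersion.{u}]
    exact hU

end Groth.Agent.GenFinite
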